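import Mathlib

/-!
# Sylow 2-subgroup of `U₃(4)` type: the principal block columns

The numerical content of the principal 2-block of a simple group with a Sylow 2-subgroup of `U₃(4)`
type, an element of order 5 in `C(a)` and `O(C(a)) ≠ 1`: `d` is the column at the involution `a`
split along the characters of the group of order 5, `e` the column at the elements of order 4 and
`f` the degree.
-/

set_option autoImplicit false

namespace CfsgLib.Lyons

open Finset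

/-- The value at the involution. -/
def colD {ι : Type*} (d : ι → Fin 5 → ℤ) (i : ι) : ℤ := ∑ j, d i j

/-- The equations of the columns. -/
structure Columns (ι : Type*) [Fintype ι] (o : ι) (d : ι → Fin 5 → ℤ) (e : ι → ℤ) (f : ι → ℕ) :
    Prop where
  pos : ∀ i, 0 < f i
  one_d : ∀ j : Fin 5, d o j = if j = 0 then 1 else 0
  one_e : e o = 1
  one_f : f o = 1
  degree : ∀ i, i ≠ o → (d i ≠ 0 ∨ e i ≠ 0) →
    (4 : ℤ) ∣ colD d i - e i ∧ (64 : ℤ) ∣ (f i : ℤ) - (4 * e i - 3 * colD d i) ∧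
      ∃ u : ℤ, 0 ≤ u ∧ 0 ≤ u + e i ∧ 0 ≤ 16 * u + e i - colD d i ∧
        4 * e i - 3 * colD d i + 64 * (u + 1) ≤ (f i : ℤ)
  gram : ∀ j k : Fin 5, ∑ i, d i j * d i k = if j = k then 16 else 12
  gram_e : ∑ i, e i ^ 2 = 16
  gram_de : ∀ j : Fin 5, ∑ i, d i j * e i = 0
  galois : ∃ π : Equiv.Perm ι, ∀ i, (∀ j : Fin 5, d (π i) j = d i (2 * j)) ∧ e (π i) = e i ∧
    f (π i) = f i
  lin_d : ∀ j : Fin 5, ∑ i, (f i : ℤ) * d i j = 0
  lin_e : ∑ i, (f i : ℤ) * e i = 0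
  pairs_e : ∑ i, ((colD d i : ℚ) ^ 2 * (e i : ℚ) / (f i : ℚ)) = 0
  pairs_y : ∑ i, ((colD d i : ℚ) ^ 2 * ((d i 0 : ℚ) - (d i 1 : ℚ)) / (f i : ℚ)) = 0

end CfsgLib.Lyons
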